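import Mathlib.RingTheory.Adjoin.Tower
import Mathlib.RingTheory.FiniteType
import Mathlib.RingTheory.Finiteness.Basic
import Mathlib.RingTheory.Finiteness.Prod

/-! Finite type subalgebras with finite extension. -/

universe u v w

namespace Groth.Agent.FibProdLib

/-- Artin-Tate for a subalgebra. -/
theorem finiteType_subalgebra {R : Type u} [CommRing R] [IsNoetherianRing R] {D : Type v} [CommRing D] [Algebra R D]
    [Algebra.FiniteType R D] (P : Subalgebra R D) (h : Module.Finite P D) : Algebra.FiniteType R P :=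
  ⟨fg_of_fg_of_fg R P D Algebra.FiniteType.out h.fg_top Subtype.val_injective⟩

/-- A product is finite over a subalgebra containing generators of the fibres of both projections. -/
theorem finite_prod_subalgebra {R : Type u} [CommRing R] {A : Type v} {C : Type w} [CommRing A] [CommRing C]
    [Algebra R A] [Algebra R C] (P : Subalgebra R (A × C)) (hC : ∀ c : C, ∃ a, (a, c) ∈ P)
    (T : Finset A) (hA : ∀ a : A, ∃ r : A → P, a = ∑ t ∈ T, (r t : A × C).1 * t) : Module.Finite P (A × C) := by
  classical
  refine ⟨⟨insert ((0, 1) : A × C) (T.image fun t => ((t, 0) : A × C)), eq_top_iff.2 fun x _ => ?_⟩⟩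
  obtain ⟨r, hr⟩ := hA x.1
  obtain ⟨a₂, h₂⟩ := hC x.2
  have hx : x = (⟨_, h₂⟩ : P) • ((0, 1) : A × C) + ∑ t ∈ T, r t • ((t, 0) : A × C) := by
    ext
    · simp only [Prod.fst_add, Prod.fst_sum, Subalgebra.smul_def, smul_eq_mul, Prod.fst_mul, mul_zero, zero_add]
      exact hr
    · simp only [Prod.snd_add, Prod.snd_sum, Subalgebra.smul_def, smul_eq_mul, Prod.snd_mul, mul_one, mul_zero,
        Finset.sum_const_zero, add_zero]
  rw [hx]
  refine Submodule.add_mem _ (Submodule.smul_mem _ _ (Submodule.subset_span (by simp)))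
    (Submodule.sum_mem _ fun t ht => Submodule.smul_mem _ _ (Submodule.subset_span (Finset.mem_coe.2 ?_)))
  exact Finset.mem_insert_of_mem (Finset.mem_image_of_mem _ ht)

end Groth.Agent.FibProdLib
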